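import Groth.Agent.ShStab.K781.Base2
import Groth.Agent.ShStab.K847.PolyOrd
import Groth.Agent.ShStab.K849.TopPart
import Mathlib.Algebra.Polynomial.Taylor

/-!
# Node Poly, 2: the final comparison of truncated Hilbert polynomials (namespace `K162.Poly`)
-/

set_option autoImplicit false
open Polynomial StabCat

namespace K162.Poly

theorem coeff_topPart (ℓ d : ℕ) (P : ℚ[X]) (n : ℕ) :
    (topPart ℓ d P).coeff n = if d - ℓ ≤ n ∧ n ≤ d then P.coeff n else 0 :=
  K849.TopPart.coeff_topPart ℓ d P n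

theorem topPart_sub (ℓ d : ℕ) (P Q : ℚ[X]) : topPart ℓ d (P - Q) = topPart ℓ d P - topPart ℓ d Q := by
  ext n
  rw [coeff_sub, coeff_topPart, coeff_topPart, coeff_topPart]
  split_ifs <;> simp

theorem topPart_smul (ℓ d : ℕ) (c : ℚ) (P : ℚ[X]) : topPart ℓ d (c • P) = c • topPart ℓ d P :=
  K849.TopPart.topPart_smul ℓ d c P

/-- A coefficient of a translate. -/
theorem coeff_comp_add {P : ℚ[X]} {n : ℕ} (hP : P.natDegree ≤ n + 1) (r : ℚ) :
    (P.comp (X + C r)).coeff n = P.coeff n + (n + 1 : ℚ) * P.coeff (n + 1) * r := by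
  have h1 : P.comp (X + C r) = taylor r P := (taylor_apply r P).symm
  have h2 : (hasseDeriv n P).natDegree < 2 := by
    have := natDegree_hasseDeriv_le P n
    omega
  rw [h1, taylor_coeff, eval_eq_sum_range' h2, Finset.sum_range_succ, Finset.sum_range_one, hasseDeriv_coeff,
    hasseDeriv_coeff]
  simp only [zero_add, Nat.choose_self, Nat.cast_one, one_mul, pow_zero, mul_one, pow_one]
  have h3 : (1 + n).choose n = n + 1 := by
    rw [add_comm, Nat.choose_succ_self_right]
  rw [h3, add_comm 1 n]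
  push_cast
  ring

/-- `P - P(X - a)`. -/
noncomputable abbrev dl (a : ℚ) (P : ℚ[X]) : ℚ[X] := P - P.comp (X - C a)

theorem coeff_dl {P : ℚ[X]} {n : ℕ} (hP : P.natDegree ≤ n + 1) (a : ℚ) :
    (dl a P).coeff n = (n + 1 : ℚ) * a * P.coeff (n + 1) := by
  have h1 : (X : ℚ[X]) - C a = X + C (-a) := by rw [C_neg, sub_eq_add_neg]
  rw [dl, coeff_sub, h1, coeff_comp_add hP]
  ring

theorem dl_sub (a : ℚ) (P Q : ℚ[X]) : dl a (P - Q) = dl a P - dl a Q := by
  rw [dl, dl, dl, sub_comp]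
  ring

theorem dl_smul (a c : ℚ) (P : ℚ[X]) : dl a (c • P) = c • dl a P := by
  rw [dl, dl, smul_comp, smul_sub]

theorem alpha_dl {e : ℕ} {P : ℚ[X]} (hP : P.natDegree ≤ e + 1) (a : ℚ) :
    alpha e (dl a P) = a * alpha (e + 1) P := by
  unfold alpha
  rw [coeff_dl hP, Nat.factorial_succ]
  push_cast
  ring

/-- The leading coefficient of the top part, if the degree is in the range. -/
theorem leadingCoeff_topPart {ℓ d : ℕ} {P : ℚ[X]} (h1 : P.natDegree ≤ d) (h2 : d - ℓ ≤ P.natDegree) :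
    (topPart ℓ d P).leadingCoeff = P.leadingCoeff := by
  rcases eq_or_ne P 0 with rfl | h0
  · rw [K849.TopPart.topPart_zero]
  have hc : (topPart ℓ d P).coeff P.natDegree = P.leadingCoeff := by
    rw [coeff_topPart, if_pos ⟨h2, h1⟩]
    rfl
  have hdeg : (topPart ℓ d P).natDegree ≤ P.natDegree := by
    rw [natDegree_le_iff_coeff_eq_zero]
    intro n hn
    rw [coeff_topPart]
    split_ifs
    · exact coeff_eq_zero_of_natDegree_lt hn
    · rfl
  have hdeg' : (topPart ℓ d P).natDegree = P.natDegree :=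
    le_antisymm hdeg (le_natDegree_of_ne_zero (by rw [hc]; exact leadingCoeff_ne_zero.mpr h0))
  rw [leadingCoeff, hdeg', hc]

/-- A nonzero top part sees the leading coefficient. -/
theorem of_topPart_ne_zero {ℓ d : ℕ} {P : ℚ[X]} (_ : P.natDegree ≤ d) (h : topPart ℓ d P ≠ 0) :
    d - ℓ ≤ P.natDegree := by
  by_contra h2
  apply h
  ext n
  rw [coeff_topPart, coeff_zero]
  split_ifs with h3
  · exact coeff_eq_zero_of_natDegree_lt (by omega)
  · rfl

/-- The reduced comparison in terms of the difference. -/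
theorem redLE_iff {ℓ e : ℕ} {P Q : ℚ[X]} :
    RedLE e (topPart ℓ e P) (topPart ℓ e Q) ↔
      0 ≤ (topPart ℓ e (alpha e P • Q - alpha e Q • P)).leadingCoeff := by
  unfold RedLE
  rw [K847.PolyOrd.polyLE_iff, K849.TopPart.alpha_topPart, K849.TopPart.alpha_topPart, topPart_sub, topPart_smul,
    topPart_smul]

theorem redLT_iff {ℓ e : ℕ} {P Q : ℚ[X]} :
    RedLT e (topPart ℓ e P) (topPart ℓ e Q) ↔
      0 < (topPart ℓ e (alpha e P • Q - alpha e Q • P)).leadingCoeff := by
  unfold RedLT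
  rw [K847.PolyOrd.polyLT_iff, K849.TopPart.alpha_topPart, K849.TopPart.alpha_topPart, topPart_sub, topPart_smul,
    topPart_smul]

theorem leadingCoeff_eq_of {P : ℚ[X]} {n : ℕ} (h : P.coeff n ≠ 0) (h' : ∀ m, n < m → P.coeff m = 0) :
    P.natDegree = n ∧ P.leadingCoeff = P.coeff n := by
  have h1 : P.natDegree = n :=
    le_antisymm (natDegree_le_iff_coeff_eq_zero.mpr h') (le_natDegree_of_ne_zero h)
  exact ⟨h1, by rw [leadingCoeff, h1]⟩

/-- **Node Poly, 2.** -/
theorem stmtPoly2 : K781.Base.StmtPoly2 := by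
  intro e ℓ hℓ hℓe PE hPE hαE 𝒮 h𝒮 c
  -- the difference polynomial attached to `Q = PE - PK`
  set A : ℚ := alpha (e + 1) PE with hA
  let D : ℚ[X] → ℚ[X] := fun Q => (A - alpha (e + 1) Q) • PE - A • (PE - Q)
  let b : ℚ[X] → ℚ := fun Q => A * max c 0 / (D Q).leadingCoeff
  obtain ⟨B, hB⟩ := (h𝒮.image b).bddAbove
  obtain ⟨a₀, ha₀⟩ := exists_nat_gt (max B 0)
  refine ⟨a₀, fun a ha PK τ hS hPK hαK hlt hτ0 hτd hτc hind => ?_⟩
  have ha0 : (0 : ℚ) < a := lt_of_le_of_lt (le_max_right B 0) (lt_of_lt_of_le ha₀ (by exact_mod_cast ha))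
  have haB : B < a := lt_of_le_of_lt (le_max_left B 0) (lt_of_lt_of_le ha₀ (by exact_mod_cast ha))
  set K : ℚ := alpha (e + 1) PK with hK
  -- the difference
  set Δ : ℚ[X] := K • PE - A • PK with hΔ
  have hDΔ : D (PE - PK) = Δ := by
    have h1 : alpha (e + 1) (PE - PK) = A - K := by
      rw [hA, hK]
      unfold alpha
      rw [coeff_sub]
      ring
    change (A - alpha (e + 1) (PE - PK)) • PE - A • (PE - (PE - PK)) = Δ
    rw [h1, sub_sub_cancel, sub_sub_cancel]
  have hΔd : Δ.natDegree ≤ e + 1 :=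
    (natDegree_sub_le _ _).trans (max_le ((natDegree_smul_le _ _).trans hPE) ((natDegree_smul_le _ _).trans hPK))
  have hΔe : Δ.coeff (e + 1) = 0 := by
    rw [hΔ, coeff_sub, coeff_smul, coeff_smul, hK, hA]
    unfold alpha
    simp only [smul_eq_mul]
    ring
  rw [redLT_iff] at hlt
  have hne : topPart ℓ (e + 1) Δ ≠ 0 := by
    intro h0
    rw [h0, leadingCoeff_zero] at hlt
    exact lt_irrefl _ hlt
  have hj1 := of_topPart_ne_zero hΔd hne
  rw [leadingCoeff_topPart hΔd hj1] at hlt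
  have hΔ0 : Δ ≠ 0 := by
    intro h0
    apply hne
    rw [h0, K849.TopPart.topPart_zero]
  have hj2 : Δ.natDegree ≤ e := by
    rcases Nat.lt_or_ge e Δ.natDegree with h | h
    · exfalso
      have h1 : Δ.natDegree = e + 1 := by omega
      have h2 : Δ.leadingCoeff = 0 := by rw [leadingCoeff, h1, hΔe]
      rw [h2] at hlt
      exact lt_irrefl _ hlt
    · exact h
  obtain ⟨j, hj⟩ : ∃ j, Δ.natDegree = j + 1 := ⟨Δ.natDegree - 1, by omega⟩
  -- the bound on `a`
  have hbound : A * max c 0 < a * Δ.leadingCoeff := by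
    have h1 : b (PE - PK) ≤ B := hB ⟨_, hS, rfl⟩
    have h2 : A * max c 0 / Δ.leadingCoeff < a := by
      have h3 : b (PE - PK) = A * max c 0 / Δ.leadingCoeff := by
        change A * max c 0 / (D (PE - PK)).leadingCoeff = _
        rw [hDΔ]
      rw [← h3]
      exact lt_of_le_of_lt h1 haB
    rwa [div_lt_iff₀ hlt] at h2
  -- multiplicities of the differences
  have hτe : τ.coeff e = 0 := coeff_eq_zero_of_natDegree_lt (by omega)
  have hαdE : alpha e (dl (a : ℚ) PE) = a * A := alpha_dl hPE a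
  have hαdK : alpha e (dl (a : ℚ) PK + τ) = a * K := by
    have h1 : alpha e (dl (a : ℚ) PK + τ) = alpha e (dl (a : ℚ) PK) := by
      unfold alpha
      rw [coeff_add, hτe, add_zero]
    rw [h1, alpha_dl hPK a]
  set G : ℚ[X] := dl (a : ℚ) Δ - A • τ with hG
  have hF : alpha e (dl (a : ℚ) PK + τ) • dl (a : ℚ) PE - alpha e (dl (a : ℚ) PE) • (dl (a : ℚ) PK + τ) =
      (a : ℚ) • G := by
    rw [hαdE, hαdK, hG, hΔ, dl_sub, dl_smul, dl_smul]
    simp only [smul_sub, smul_add, smul_smul]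
    ring
  have key : ∀ ℓ' : ℕ, RedLE e (topPart ℓ' e (dl (a : ℚ) PK + τ)) (topPart ℓ' e (dl (a : ℚ) PE)) ↔
      0 ≤ (topPart ℓ' e G).leadingCoeff := by
    intro ℓ'
    rw [redLE_iff, hF, topPart_smul, leadingCoeff_smul_of_smul_regular _ (IsSMulRegular.of_ne_zero ha0.ne'),
      smul_eq_mul]
    exact mul_nonneg_iff_of_pos_left ha0
  change RedLE e (topPart ℓ e (dl (a : ℚ) PK + τ)) (topPart ℓ e (dl (a : ℚ) PE))
  rw [key]
  have hdlΔ : ∀ n, j ≤ n → (dl (a : ℚ) Δ).coeff n = (n + 1 : ℚ) * a * Δ.coeff (n + 1) := fun n hn =>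
    coeff_dl (by omega) a
  rcases Nat.lt_or_ge j τ.natDegree with hcase | hcase
  · -- `τ` dominates: contradiction with the hypothesis on `ℓ - 1`
    exfalso
    have hτne : τ ≠ 0 := by
      rintro rfl
      simp at hcase
    have hτlc : 0 < τ.leadingCoeff := lt_of_le_of_ne hτ0 (leadingCoeff_ne_zero.mpr hτne).symm
    have hGc : G.coeff τ.natDegree = -(A * τ.leadingCoeff) := by
      rw [hG, coeff_sub, hdlΔ _ hcase.le, coeff_eq_zero_of_natDegree_lt (p := Δ) (by omega), coeff_smul,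
        smul_eq_mul]
      rw [mul_zero, zero_sub]
      rfl
    have hGz : ∀ m, τ.natDegree < m → G.coeff m = 0 := by
      intro m hm
      rw [hG, coeff_sub, hdlΔ _ (by omega), coeff_eq_zero_of_natDegree_lt (p := Δ) (by omega), coeff_smul,
        coeff_eq_zero_of_natDegree_lt hm]
      simp
    have hneg : -(A * τ.leadingCoeff) < 0 := neg_neg_of_pos (mul_pos hαE hτlc)
    obtain ⟨h1, h2⟩ := leadingCoeff_eq_of (P := G) (n := τ.natDegree) (by rw [hGc]; exact hneg.ne) hGz
    have h3 := (key (ℓ - 1)).mp (hind (by omega))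
    rw [leadingCoeff_topPart (by omega) (by omega), h2, hGc] at h3
    linarith
  · -- the difference of the translates dominates
    have hτj : τ.coeff j ≤ max c 0 := by
      have h1 := hτc j (by omega) hcase
      unfold alpha at h1
      have h2 : (1 : ℚ) ≤ (j.factorial : ℚ) := by exact_mod_cast Nat.factorial_pos j
      rcases le_or_gt (τ.coeff j) 0 with h3 | h3
      · exact h3.trans (le_max_right _ _)
      · have h4 : τ.coeff j ≤ (j.factorial : ℚ) * τ.coeff j := by nlinarith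
        exact (h4.trans h1).trans (le_max_left _ _)
    have hGc : G.coeff j = (j + 1 : ℚ) * a * Δ.leadingCoeff - A * τ.coeff j := by
      rw [hG, coeff_sub, hdlΔ _ le_rfl, coeff_smul, smul_eq_mul, leadingCoeff, hj]
    have hpos : 0 < G.coeff j := by
      rw [hGc]
      have h1 : A * τ.coeff j ≤ A * max c 0 := mul_le_mul_of_nonneg_left hτj hαE.le
      have h2 : (a : ℚ) * Δ.leadingCoeff ≤ (j + 1 : ℚ) * a * Δ.leadingCoeff := by
        have h3 : (0 : ℚ) ≤ (a : ℚ) * Δ.leadingCoeff := (mul_pos ha0 hlt).le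
        have h4 : (0 : ℚ) ≤ (j : ℚ) := Nat.cast_nonneg j
        nlinarith
      linarith
    have hGz : ∀ m, j < m → G.coeff m = 0 := by
      intro m hm
      rw [hG, coeff_sub, hdlΔ _ hm.le, coeff_eq_zero_of_natDegree_lt (p := Δ) (by omega), coeff_smul,
        coeff_eq_zero_of_natDegree_lt (p := τ) (by omega)]
      simp
    obtain ⟨h1, h2⟩ := leadingCoeff_eq_of (P := G) (n := j) hpos.ne' hGz
    rw [leadingCoeff_topPart (by omega) (by omega), h2]
    exact hpos.le

end K162.Poly
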